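import Cfsg.Agent.H327.KR.Herm
import Cfsg.Agent.H390.FactsOrth

/-!
# `S3536-P-KR`: a Frobenius group `q^n : (q^n-1)/2` in `Ω_{2n+1}(q)`, `n` even (helper327)
-/

set_option autoImplicit false

namespace Cfsg.Agent.H327.KR

open Subgroup Module Cfsg
open Cfsg.Agent.LieClassical.OrthCore (O Nondeg)
open Cfsg.Agent.LieClassical.OmegaReindex
open scoped MatrixGroups Matrix

universe u v w

section

variable {F : Type u} [Field F] [Fintype F] {E : Type v} [Field E] [Algebra F E] [Finite E] {σ : E ≃ₐ[F] E}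
  {V : Type w} [AddCommGroup V] [Module F V] [FiniteDimensional F V] {Q : QuadraticForm F V}

/-- `SL_2(E)` in the isometry group of a large quadratic space -/
theorem exists_sl2_O (h2 : (2 : F) ≠ 0) (hσ : ∀ x, σ (σ x) = x) (hσ1 : σ ≠ 1) (hQ : Nondeg Q)
    (hd : 2 * finrank F E < finrank F V) :
    ∃ Ψ : SL(2, E) →* O Q, (∀ g, Ψ g = 1 → g = 1 ∨ g = -1) ∧ Ψ (-1) = 1 := by
  have hnd := nondeg_R (σ := σ) h2 hσ
  have hle := finrank_HM_le (σ := σ) h2 hσ hσ1
  obtain ⟨f, hf, hfQ⟩ := H954.TSing.exists_embedding_odd (R := R σ) h2 _ hQ hnd rfl (by omega)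
  obtain ⟨hW, -, -⟩ := H955.range_props hnd hf hfQ
  let e : HM σ ≃ₗ[F] LinearMap.range f := LinearEquiv.ofInjective f hf
  have he : ∀ x, H955.res Q (LinearMap.range f) (e x) = R σ x := fun x => hfQ x
  let Ψ₀ : SL(2, E) →* (V ≃ₗ[F] V) := (H955.glue hW).comp
    (((H955.tr e).toMonoidHom.comp (herm hσ)).prod 1)
  have hmem : ∀ g, Ψ₀ g ∈ O Q := fun g =>
    (H955.glue_mem_O hW).2 ⟨(H955.tr_mem_O e he).2 (herm_mem hσ g), one_mem _⟩
  refine ⟨Ψ₀.codRestrict (O Q) hmem, fun g hg => ?_, ?_⟩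
  · have h1 : Ψ₀ g = 1 := congrArg Subtype.val hg
    have h3 : (((H955.tr e).toMonoidHom.comp (herm hσ)).prod 1 : SL(2, E) →* _) g =
        (1 : (LinearMap.range f ≃ₗ[F] LinearMap.range f) ×
          (H955.perp Q (LinearMap.range f) ≃ₗ[F] H955.perp Q (LinearMap.range f))) := by
      apply H955.glue_injective hW
      rw [map_one]
      exact h1
    have h4 : H955.tr e (herm hσ g) = 1 := congrArg Prod.fst h3
    exact herm_ker hσ ((MulEquiv.map_eq_one_iff (H955.tr e)).1 h4)
  · apply Subtype.ext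
    change H955.glue hW (H955.tr e (herm hσ (-1)), 1) = 1
    rw [herm_neg_one, map_one]
    exact map_one _

end

/-- elements of `SL_2(E)` which commute with the two standard unipotent elements up to sign -/
theorem eq_or_of_comm {E : Type v} [Field E] (h2 : (2 : E) ≠ 0) {g : SL(2, E)}
    (h : ∀ h : SL(2, E), g * h = h * g ∨ g * h = -(h * g)) : g = 1 ∨ g = -1 := by
  have hdet : (g : Matrix (Fin 2) (Fin 2) E) 0 0 * (g : Matrix (Fin 2) (Fin 2) E) 1 1 -
      (g : Matrix (Fin 2) (Fin 2) E) 0 1 * (g : Matrix (Fin 2) (Fin 2) E) 1 0 = 1 := by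
    rw [← Matrix.det_fin_two]; exact g.2
  let a : SL(2, E) := ⟨!![1, 1; 0, 1], by simp [Matrix.det_fin_two]⟩
  let b : SL(2, E) := ⟨!![1, 0; 1, 1], by simp [Matrix.det_fin_two]⟩
  have ea : (a : Matrix (Fin 2) (Fin 2) E) = !![1, 1; 0, 1] := rfl
  have eb : (b : Matrix (Fin 2) (Fin 2) E) = !![1, 0; 1, 1] := rfl
  have neg : ∀ x : E, x = -x → x = 0 := by
    intro x hx
    have : (2 : E) * x = 0 := by linear_combination hx
    exact (mul_eq_zero.1 this).resolve_left h2
  have h1 : (g : Matrix (Fin 2) (Fin 2) E) 1 0 = 0 ∧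
      (g : Matrix (Fin 2) (Fin 2) E) 0 0 = (g : Matrix (Fin 2) (Fin 2) E) 1 1 := by
    rcases h a with h3 | h3
    · have h4 := congrArg (fun x : SL(2, E) => (x : Matrix (Fin 2) (Fin 2) E)) h3
      simp only [Matrix.SpecialLinearGroup.coe_mul, ea] at h4
      have e1 := congrFun (congrFun h4 0) 0
      have e2 := congrFun (congrFun h4 0) 1
      simp [Matrix.mul_apply, Fin.sum_univ_two] at e1 e2
      refine ⟨e1, ?_⟩
      linear_combination e2
    · exfalso
      have h4 := congrArg (fun x : SL(2, E) => (x : Matrix (Fin 2) (Fin 2) E)) h3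
      simp only [Matrix.SpecialLinearGroup.coe_mul, Matrix.SpecialLinearGroup.coe_neg, ea] at h4
      have e1 := congrFun (congrFun h4 1) 0
      have e2 := congrFun (congrFun h4 0) 0
      simp [Matrix.mul_apply, Fin.sum_univ_two, Matrix.vecMul, dotProduct] at e1 e2
      have e3 := neg _ e1
      rw [e3] at e2
      have e4 : (g : Matrix (Fin 2) (Fin 2) E) 0 0 = 0 := neg _ (by linear_combination e2)
      rw [e3, e4] at hdet
      simp at hdet
  have h5 : (g : Matrix (Fin 2) (Fin 2) E) 0 1 = 0 := by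
    rcases h b with h3 | h3
    · have h4 := congrArg (fun x : SL(2, E) => (x : Matrix (Fin 2) (Fin 2) E)) h3
      simp only [Matrix.SpecialLinearGroup.coe_mul, eb] at h4
      have e1 := congrFun (congrFun h4 0) 0
      simpa [Matrix.mul_apply, Fin.sum_univ_two] using e1
    · have h4 := congrArg (fun x : SL(2, E) => (x : Matrix (Fin 2) (Fin 2) E)) h3
      simp only [Matrix.SpecialLinearGroup.coe_mul, Matrix.SpecialLinearGroup.coe_neg, eb] at h4
      have e1 := congrFun (congrFun h4 0) 1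
      simp [Matrix.mul_apply, Fin.sum_univ_two, Matrix.vecMul, dotProduct] at e1
      exact neg _ e1
  have h6 : (g : Matrix (Fin 2) (Fin 2) E) 0 0 * (g : Matrix (Fin 2) (Fin 2) E) 0 0 = 1 := by
    rw [h1.1, ← h1.2] at hdet
    simpa using hdet
  rcases mul_self_eq_one_iff.1 h6 with h | h
  · left
    apply Subtype.ext
    rw [Matrix.SpecialLinearGroup.coe_one]
    ext i j
    fin_cases i <;> fin_cases j
    · exact h
    · exact h5
    · exact h1.1
    · exact h1.2.symm.trans h
  · right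
    apply Subtype.ext
    rw [Matrix.SpecialLinearGroup.coe_neg, Matrix.SpecialLinearGroup.coe_one]
    ext i j
    fin_cases i <;> fin_cases j
    · simpa using h
    · simpa using h5
    · simpa using h1.1
    · simpa using h1.2.symm.trans h

/-- a homomorphism from `SL_2(E)` to a group `Γ` induces one into `[Γ, Γ]` modulo its centre -/
theorem exists_toProj {E : Type v} [Field E] [Fintype E] (h3 : 3 < Fintype.card E) (h2 : (2 : E) ≠ 0)
    {Γ : Type w} [Group Γ] (Ψ : SL(2, E) →* Γ) (h : ∀ g, Ψ g = 1 → g = 1 ∨ g = -1) (h1 : Ψ (-1) = 1) :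
    ∃ Φ : SL(2, E) →* (commutator Γ ⧸ Subgroup.center (commutator Γ)),
      (∀ g, Φ g = 1 → g = 1 ∨ g = -1) ∧ Φ (-1) = 1 := by
  have hmem : ∀ g, Ψ g ∈ commutator Γ := by
    intro g
    have h4 : g ∈ commutator SL(2, E) := by
      rw [Cfsg.Agent.TwoFusion.SLTwoFacts.commutator_eq_top h3]; trivial
    have h5 : (commutator SL(2, E)).map Ψ ≤ commutator Γ := by
      rw [commutator_def, commutator_def, Subgroup.map_commutator]
      exact Subgroup.commutator_mono le_top le_top
    exact h5 ⟨g, h4, rfl⟩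
  let Ψ' : SL(2, E) →* commutator Γ := Ψ.codRestrict _ hmem
  have hker : ∀ g, Ψ' g = 1 → g = 1 ∨ g = -1 := fun g hg => h g (congrArg Subtype.val hg)
  refine ⟨(QuotientGroup.mk' (Subgroup.center (commutator Γ))).comp Ψ', fun g hg => ?_, ?_⟩
  · have h4 : Ψ' g ∈ Subgroup.center (commutator Γ) := (QuotientGroup.eq_one_iff _).1 hg
    rw [Subgroup.mem_center_iff] at h4
    refine eq_or_of_comm h2 fun k => ?_
    have h5 := h4 (Ψ' k)
    have h6 : Ψ' (g * k * (k * g)⁻¹) = 1 := by
      rw [map_mul, map_inv, map_mul, map_mul, h5, mul_inv_cancel]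
    rcases hker _ h6 with h7 | h7
    · exact Or.inl (mul_inv_eq_one.1 h7)
    · right
      rw [mul_inv_eq_iff_eq_mul.1 h7, neg_one_mul]
  · have h4 : Ψ' (-1) = 1 := Subtype.ext h1
    rw [MonoidHom.comp_apply, h4, map_one]

/-- **`PΩ(Q)` contains a Frobenius group `q^n : (q^n - 1)/2`** if `n` is even and the dimension is more than `2n`. -/
theorem frob_pomega {F : Type u} [Field F] [Fintype F] {p : ℕ} [CharP F p] (hp : p.Prime) (hp2 : p ≠ 2) {n : ℕ}
    (hn : 1 ≤ n) (hev : Even n) {ι : Type} [Fintype ι] [DecidableEq ι] {Q : QuadraticForm F (ι → F)} (hQ : Nondeg Q)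
    (hι : 2 * n < Fintype.card ι) : Frob (POmega F (⇑Q)) p ((Nat.card F ^ n - 1) / 2) := by
  classical
  have := Fact.mk hp
  have : NeZero n := ⟨by omega⟩
  have h2 : (2 : F) ≠ 0 := by
    have h3 : ((2 : ℕ) : F) ≠ 0 := by
      rw [Ne, CharP.cast_eq_zero_iff F p 2]
      intro h
      exact hp2 ((Nat.prime_dvd_prime_iff_eq hp Nat.prime_two).1 h)
    exact_mod_cast h3
  let E := FiniteField.Extension F p n
  have hfin : finrank F E = n := FiniteField.finrank_extension F p n
  have hcard : Nat.card E = Nat.card F ^ n := FiniteField.natCard_extension F p n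
  have hcharE : CharP E p := charP_of_injective_algebraMap (algebraMap F E).injective p
  have : Fintype E := Fintype.ofFinite E
  have h2E : (2 : E) ≠ 0 := by
    have := (map_ne_zero (algebraMap F E)).2 h2
    rwa [map_ofNat] at this
  have hE3 : 3 < Fintype.card E := by
    rw [← Nat.card_eq_fintype_card, hcard]
    have h3 : 3 ≤ Nat.card F := by
      have h4 : 1 < Nat.card F := Finite.one_lt_card
      have h5 : Nat.card F ≠ 2 := by
        intro h
        apply h2
        have h6 : ((Fintype.card F : ℕ) : F) = 0 := FiniteField.cast_card_eq_zero F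
        rw [← Nat.card_eq_fintype_card, h] at h6
        exact_mod_cast h6
      omega
    have hn2 : 2 ≤ n := by
      obtain ⟨k, hk⟩ := hev
      omega
    calc 3 < 3 ^ 2 := by norm_num
      _ ≤ (Nat.card F) ^ 2 := Nat.pow_le_pow_left h3 2
      _ ≤ (Nat.card F) ^ n := Nat.pow_le_pow_right (by omega) hn2
  -- an automorphism of order two
  obtain ⟨σ, hσo⟩ : ∃ σ : E ≃ₐ[F] E, orderOf σ = 2 := by
    have h3 : Nat.card (E ≃ₐ[F] E) = n := FiniteField.natCard_algEquiv_extension F p n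
    have : Finite (E ≃ₐ[F] E) := Nat.finite_of_card_ne_zero (by omega)
    exact exists_prime_orderOf_dvd_card' 2 (by rw [h3]; exact hev.two_dvd)
  have hσ : ∀ x, σ (σ x) = x := by
    intro x
    have h3 : σ ^ 2 = 1 := by rw [← hσo, pow_orderOf_eq_one]
    have h4 := congrArg (fun τ : E ≃ₐ[F] E => τ x) h3
    rw [pow_two] at h4
    exact h4
  have hσ1 : σ ≠ 1 := by
    rintro rfl
    rw [orderOf_one] at hσo
    omega
  obtain ⟨Ψ, hΨ, hΨ1⟩ := exists_sl2_O (σ := σ) h2 hσ hσ1 hQ (by
    rw [hfin, Module.finrank_fintype_fun_eq_card]; exact hι)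
  let eO : isometryGroup F (⇑Q) ≃* O Q := Cfsg.Agent.LieClassical.OrthFinite.isometryEquiv Q
  obtain ⟨Φ, hΦ, hΦ1⟩ := exists_toProj hE3 h2E (eO.symm.toMonoidHom.comp Ψ)
    (fun g hg => hΨ g ((MulEquiv.map_eq_one_iff eO.symm).1 hg)) (by
      change eO.symm (Ψ (-1)) = 1
      rw [hΨ1, map_one])
  rw [← hcard]
  exact frob_of_sl2 hp hp2 Φ hΦ hΦ1

/-- **`Ω_{2n+1}(q)`, `n` even, contains a Frobenius group `q^n : (q^n - 1)/2`.** -/
theorem frob_oodd {F : Type u} [Field F] [Fintype F] {p : ℕ} [CharP F p] (hp : p.Prime) (hp2 : p ≠ 2) {n : ℕ}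
    (hn : 1 ≤ n) (hev : Even n) : Frob (POmega F (quadFormOdd n F)) p ((Nat.card F ^ n - 1) / 2) := by
  have h2 : (2 : F) ≠ 0 := by
    have h3 : ((2 : ℕ) : F) ≠ 0 := by
      rw [Ne, CharP.cast_eq_zero_iff F p 2]
      intro h
      exact hp2 ((Nat.prime_dvd_prime_iff_eq hp Nat.prime_two).1 h)
    exact_mod_cast h3
  have h := frob_pomega (F := F) hp hp2 hn hev (Q := quadOdd n F)
    (Cfsg.Agent.H955.nondeg_iff.2 (quadOdd_nondegenerate h2)) (by simp; omega)
  rw [coe_quadOdd] at h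
  exact h

end Cfsg.Agent.H327.KR
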