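import Cfsg.Agent.H327.KR.Sp
import Cfsg.Agent.H327.KR.Orth

/-!
# `S3536-P-KR`: the coprime step for `PSp_{2n}(q)` and `Ω_{2n+1}(q)`, `n = 2 ^ k` (helper327)
-/

set_option autoImplicit false

namespace Cfsg.Agent.H327.KR

open Subgroup Module Cfsg

universe u v

theorem charP_of_card {F : Type u} [Field F] [Fintype F] {p a : ℕ} (hp : p.Prime) (hF : Fintype.card F = p ^ a) :
    CharP F p := by
  obtain ⟨r, hr⟩ := CharP.exists F
  obtain ⟨n, hrp, hn⟩ := FiniteField.card F r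
  have h1 : r ∣ p ^ a := by
    rw [← hF, hn]
    exact dvd_pow_self r n.pos.ne'
  have h2 : r = p := (Nat.prime_dvd_prime_iff_eq hrp hp).1 (hrp.dvd_of_dvd_pow h1)
  rwa [h2] at hr

/-- `PSp_{2n}(q)`, `Ω_{2n+1}(q)`, `n = 2 ^ k`, contain Frobenius groups `q^n : (q^n-1)/2`. -/
theorem frob {F : Type u} [Field F] [Fintype F] {p a k : ℕ} (hp : p.Prime) (hp2 : p ≠ 2)
    (hF : Fintype.card F = p ^ a) (hk : 1 ≤ k) {T : Type v} [Group T]
    (hT : Nonempty (T ≃* PSp (2 ^ k) F) ∨ Nonempty (T ≃* POmega F (quadFormOdd (2 ^ k) F))) :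
    Frob T p ((Fintype.card F ^ 2 ^ k - 1) / 2) := by
  have := charP_of_card hp hF
  rw [← Nat.card_eq_fintype_card]
  rcases hT with ⟨⟨e⟩⟩ | ⟨⟨e⟩⟩
  · exact (frob_psp hp hp2 Nat.one_le_two_pow).congr e.symm
  · exact (frob_oodd hp hp2 Nat.one_le_two_pow ((Nat.even_pow' (by omega)).2 even_two)).congr e.symm

/-- **The coprime step**, faithful action. -/
theorem kstep {F : Type u} [Field F] [Fintype F] {p a k : ℕ} (hp : p.Prime) (hp2 : p ≠ 2)
    (hF : Fintype.card F = p ^ a) (hk : 1 ≤ k) {X : Type v} [Group X] [Finite X] {V : Subgroup X} [V.Normal]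
    (hVc : ∀ v ∈ V, ∀ w ∈ V, v * w = w * v) {t : ℕ} (ht : t.Prime) (htp : t ≠ p) (hexp : ∀ v ∈ V, v ^ t = 1)
    (T : Subgroup (X ⧸ V))
    (hT : Nonempty (T ≃* PSp (2 ^ k) F) ∨ Nonempty (T ≃* POmega F (quadFormOdd (2 ^ k) F)))
    (hfaith : ∀ x : X, (QuotientGroup.mk x : X ⧸ V) ∈ T → (∀ v ∈ V, x * v = v * x) → x ∈ V) :
    ∃ x : X, t * ((Fintype.card F ^ 2 ^ k - 1) / 2) ∣ orderOf x := by
  obtain ⟨x, hx⟩ := (frob hp hp2 hF hk hT).step hVc ht hp htp hexp T hfaith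
  exact ⟨x, hx.symm.dvd⟩

/-- a nontrivial action of a simple group is faithful -/
theorem faithful_of_simple {X : Type v} [Group X] {V : Subgroup X} [V.Normal]
    (hVc : ∀ v ∈ V, ∀ w ∈ V, v * w = w * v) (T : Subgroup (X ⧸ V)) [IsSimpleGroup T]
    (hne : ∃ x : X, (QuotientGroup.mk x : X ⧸ V) ∈ T ∧ ∃ v ∈ V, x * v ≠ v * x) (x : X)
    (hx : (QuotientGroup.mk x : X ⧸ V) ∈ T) (hc : ∀ v ∈ V, x * v = v * x) : x ∈ V := by
  have hVC : V ≤ centralizer (V : Set X) := fun v hv => by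
    rw [mem_centralizer_iff]
    exact fun w hw => hVc w hw v hv
  let N : Subgroup T := ((centralizer (V : Set X)).map (QuotientGroup.mk' V)).subgroupOf T
  have hN : N.Normal := by
    have h1 : ((centralizer (V : Set X)).map (QuotientGroup.mk' V)).Normal :=
      Subgroup.Normal.map inferInstance _ (QuotientGroup.mk'_surjective V)
    exact h1.subgroupOf T
  have hmem : ∀ y : X, (QuotientGroup.mk y : X ⧸ V) ∈ (centralizer (V : Set X)).map (QuotientGroup.mk' V) →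
      ∀ v ∈ V, y * v = v * y := by
    rintro y ⟨z, hz, hzy⟩ v hv
    have h1 : z⁻¹ * y ∈ V := QuotientGroup.eq.1 hzy
    have h2 : y = z * (z⁻¹ * y) := by group
    have h3 : z * v = v * z := (mem_centralizer_iff.1 hz v hv).symm
    have h4 := hVc _ h1 v hv
    calc y * v = z * ((z⁻¹ * y) * v) := by rw [← mul_assoc, ← h2]
      _ = z * v * (z⁻¹ * y) := by rw [h4, mul_assoc]
      _ = v * y := by rw [h3]; group
  rcases hN.eq_bot_or_eq_top with h | h
  · have h1 : (⟨QuotientGroup.mk x, hx⟩ : T) ∈ N := by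
      rw [mem_subgroupOf]
      exact ⟨x, mem_centralizer_iff.2 fun v hv => (hc v hv).symm, rfl⟩
    rw [h, mem_bot] at h1
    exact (QuotientGroup.eq_one_iff x).1 (congrArg Subtype.val h1)
  · exfalso
    obtain ⟨y, hy, v, hv, hyv⟩ := hne
    have h1 : (⟨QuotientGroup.mk y, hy⟩ : T) ∈ N := by rw [h]; trivial
    exact hyv (hmem y (mem_subgroupOf.1 h1) v hv)

/-- **The coprime step**, nontrivial action, `T` simple. -/
theorem kstep' {F : Type u} [Field F] [Fintype F] {p a k : ℕ} (hp : p.Prime) (hp2 : p ≠ 2)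
    (hF : Fintype.card F = p ^ a) (hk : 1 ≤ k) {X : Type v} [Group X] [Finite X] {V : Subgroup X} [V.Normal]
    (hVc : ∀ v ∈ V, ∀ w ∈ V, v * w = w * v) {t : ℕ} (ht : t.Prime) (htp : t ≠ p) (hexp : ∀ v ∈ V, v ^ t = 1)
    (T : Subgroup (X ⧸ V)) [IsSimpleGroup T]
    (hT : Nonempty (T ≃* PSp (2 ^ k) F) ∨ Nonempty (T ≃* POmega F (quadFormOdd (2 ^ k) F)))
    (hne : ∃ x : X, (QuotientGroup.mk x : X ⧸ V) ∈ T ∧ ∃ v ∈ V, x * v ≠ v * x) :
    ∃ x : X, t * ((Fintype.card F ^ 2 ^ k - 1) / 2) ∣ orderOf x :=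
  kstep hp hp2 hF hk hVc ht htp hexp T hT (faithful_of_simple hVc T hne)

end Cfsg.Agent.H327.KR
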