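import Cfsg.Agent.H327.KR.Frob
import Cfsg.Agent.ClassicalGeometry.SympInvolutions
import Cfsg.Prelude.Def_Classical

/-!
# `S3536-P-KR`: `SL_2(q^n)` in `Sp_{2n}(q)` (helper327)
-/

set_option autoImplicit false

namespace Cfsg.Agent.H327.KR

open Subgroup Module Cfsg
open Cfsg.Agent.ClassicalGeometry.SympBasic
open scoped MatrixGroups Matrix

universe u v

section

variable {F : Type u} [Field F] {E : Type v} [Field E] [Algebra F E]

variable (F) in
/-- the action of `2 × 2` matrices -/
def actL (M : Matrix (Fin 2) (Fin 2) E) : (E × E) →ₗ[F] (E × E) where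
  toFun u := (M 0 0 * u.1 + M 0 1 * u.2, M 1 0 * u.1 + M 1 1 * u.2)
  map_add' u v := by
    ext
    · simp only [Prod.fst_add, Prod.snd_add]; ring
    · simp only [Prod.fst_add, Prod.snd_add]; ring
  map_smul' c u := by
    ext
    · simp only [Prod.smul_fst, Prod.smul_snd, mul_smul_comm, RingHom.id_apply, smul_add]
    · simp only [Prod.smul_fst, Prod.smul_snd, mul_smul_comm, RingHom.id_apply, smul_add]

theorem actL_one : actL F (1 : Matrix (Fin 2) (Fin 2) E) = LinearMap.id := by
  refine LinearMap.ext fun u => ?_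
  ext
  · simp [actL]
  · simp [actL]

theorem actL_mul (M N : Matrix (Fin 2) (Fin 2) E) : actL F (M * N) = (actL F M).comp (actL F N) := by
  refine LinearMap.ext fun u => ?_
  ext
  · simp only [actL, LinearMap.coe_mk, AddHom.coe_mk, LinearMap.comp_apply, Matrix.mul_apply, Fin.sum_univ_two]
    ring
  · simp only [actL, LinearMap.coe_mk, AddHom.coe_mk, LinearMap.comp_apply, Matrix.mul_apply, Fin.sum_univ_two]
    ring

/-- a linear equivalence which is an isometry for the standard symplectic form and the trace form -/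
theorem exists_coord [Finite F] [Finite E] {n : ℕ} (hn : finrank F E = n) :
    ∃ P : (Fin n ⊕ Fin n → F) ≃ₗ[F] (E × E), ∀ u v, sympForm n F u v =
      Algebra.trace F E ((P u).2 * (P v).1 - (P u).1 * (P v).2) := by
  classical
  have hsep : Algebra.IsSeparable F E := inferInstance
  let b : Basis (Fin n) F E := Module.finBasisOfFinrankEq F E hn
  have hnd := traceForm_nondegenerate F E
  let b' : Basis (Fin n) F E := (Algebra.traceForm F E).dualBasis hnd b
  have hb : ∀ i j, Algebra.trace F E (b' i * b j) = if j = i then 1 else 0 := fun i j => by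
    have := LinearMap.BilinForm.apply_dualBasis_left hnd b i j
    rwa [Algebra.traceForm_apply] at this
  let P : (Fin n ⊕ Fin n → F) ≃ₗ[F] (E × E) :=
    (LinearEquiv.sumArrowLequivProdArrow (Fin n) (Fin n) F F).trans
      (b.equivFun.symm.prodCongr b'.equivFun.symm)
  have hP1 : ∀ u, (P u).1 = ∑ i, u (Sum.inl i) • b i := fun u => by
    change b.equivFun.symm _ = _
    rw [Basis.equivFun_symm_apply]
    rfl
  have hP2 : ∀ u, (P u).2 = ∑ i, u (Sum.inr i) • b' i := fun u => by
    change b'.equivFun.symm _ = _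
    rw [Basis.equivFun_symm_apply]
    rfl
  have key : ∀ x y : Fin n → F, Algebra.trace F E ((∑ i, x i • b' i) * ∑ j, y j • b j) = ∑ i, x i * y i := by
    intro x y
    rw [Finset.sum_mul_sum, map_sum]
    refine Finset.sum_congr rfl fun i _ => ?_
    rw [map_sum, Finset.sum_eq_single i]
    · rw [smul_mul_smul_comm, map_smul, hb, if_pos rfl, smul_eq_mul, mul_one]
    · intro j _ hj
      rw [smul_mul_smul_comm, map_smul, hb, if_neg hj, smul_zero]
    · intro h
      exact absurd (Finset.mem_univ i) h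
  refine ⟨P, fun u v => ?_⟩
  rw [sympForm_eq_sum, hP1, hP2, hP1, hP2, map_sub, mul_comm (∑ i, u (Sum.inl i) • b i), key, key,
    ← Finset.sum_sub_distrib]
  exact Finset.sum_congr rfl fun i _ => by ring

variable {n : ℕ} (P : (Fin n ⊕ Fin n → F) ≃ₗ[F] (E × E))
  (hP : ∀ u v, sympForm n F u v = Algebra.trace F E ((P u).2 * (P v).1 - (P u).1 * (P v).2))

/-- `SL_2(E)` in the symplectic group -/
noncomputable def toSp : SL(2, E) →* Matrix.symplecticGroup (Fin n) F where
  toFun g := ⟨LinearMap.toMatrix' (P.symm.toLinearMap ∘ₗ actL F (g : Matrix (Fin 2) (Fin 2) E) ∘ₗ P.toLinearMap), by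
    rw [mem_symplecticGroup_iff]
    intro u v
    rw [LinearMap.toMatrix'_mulVec, LinearMap.toMatrix'_mulVec, hP, hP u v]
    simp only [LinearMap.comp_apply, LinearEquiv.coe_coe, LinearEquiv.apply_symm_apply]
    congr 1
    have hdet : (g : Matrix (Fin 2) (Fin 2) E) 0 0 * (g : Matrix (Fin 2) (Fin 2) E) 1 1 -
        (g : Matrix (Fin 2) (Fin 2) E) 0 1 * (g : Matrix (Fin 2) (Fin 2) E) 1 0 = 1 := by
      rw [← Matrix.det_fin_two]; exact g.2
    simp only [actL, LinearMap.coe_mk, AddHom.coe_mk]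
    linear_combination ((P u).2 * (P v).1 - (P u).1 * (P v).2) * hdet⟩
  map_one' := by
    apply Subtype.ext
    change LinearMap.toMatrix' (P.symm.toLinearMap ∘ₗ actL F ((1 : SL(2, E)) : Matrix (Fin 2) (Fin 2) E) ∘ₗ
      P.toLinearMap) = 1
    rw [Matrix.SpecialLinearGroup.coe_one, actL_one, LinearMap.id_comp]
    have : P.symm.toLinearMap ∘ₗ P.toLinearMap = LinearMap.id := by
      refine LinearMap.ext fun v => ?_
      simp
    rw [this, LinearMap.toMatrix'_id]
  map_mul' g h := by
    apply Subtype.ext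
    change LinearMap.toMatrix' (P.symm.toLinearMap ∘ₗ actL F ((g * h : SL(2, E)) : Matrix (Fin 2) (Fin 2) E) ∘ₗ
      P.toLinearMap) = LinearMap.toMatrix' _ * LinearMap.toMatrix' _
    rw [← LinearMap.toMatrix'_comp, Matrix.SpecialLinearGroup.coe_mul, actL_mul]
    congr 1
    refine LinearMap.ext fun v => ?_
    simp

theorem toSp_mulVec (g : SL(2, E)) (v : Fin n ⊕ Fin n → F) :
    P (((toSp P hP g : Matrix.symplecticGroup (Fin n) F) : Matrix (Fin n ⊕ Fin n) (Fin n ⊕ Fin n) F) *ᵥ v) =
      actL F (g : Matrix (Fin 2) (Fin 2) E) (P v) := by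
  change P (LinearMap.toMatrix' _ *ᵥ v) = _
  rw [LinearMap.toMatrix'_mulVec]
  simp

theorem toSp_neg_one :
    ((toSp P hP (-1) : Matrix.symplecticGroup (Fin n) F) : Matrix (Fin n ⊕ Fin n) (Fin n ⊕ Fin n) F) = -1 := by
  apply Matrix.toLin'.injective
  refine LinearMap.ext fun v => P.injective ?_
  rw [Matrix.toLin'_apply, toSp_mulVec, Matrix.toLin'_apply, Matrix.neg_mulVec, Matrix.one_mulVec, map_neg]
  ext
  · simp [actL]
  · simp [actL]

theorem actL_eq {M : Matrix (Fin 2) (Fin 2) E} {ε : E} (h : ∀ u : E × E, actL F M u = (ε * u.1, ε * u.2)) :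
    M = !![ε, 0; 0, ε] := by
  have h1 := h (1, 0)
  have h2 := h (0, 1)
  simp only [actL, LinearMap.coe_mk, AddHom.coe_mk, mul_one, mul_zero, add_zero, zero_add, Prod.mk.injEq] at h1 h2
  ext i j
  fin_cases i <;> fin_cases j
  · exact h1.1
  · exact h2.1
  · exact h1.2
  · exact h2.2

/-- the map to `PSp` -/
noncomputable def toPSp : SL(2, E) →* PSp n F :=
  (QuotientGroup.mk' (Subgroup.center (Matrix.symplecticGroup (Fin n) F))).comp (toSp P hP)

theorem toPSp_ker {g : SL(2, E)} (hg : toPSp P hP g = 1) : g = 1 ∨ g = -1 := by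
  have h1 : toSp P hP g ∈ Subgroup.center (Matrix.symplecticGroup (Fin n) F) := (QuotientGroup.eq_one_iff _).1 hg
  rcases Cfsg.Agent.ClassicalGeometry.SympInvolutions.center_eq h1 with h2 | h2
  · left
    have h3 : (g : Matrix (Fin 2) (Fin 2) E) = !![1, 0; 0, 1] := by
      apply actL_eq (F := F)
      intro u
      obtain ⟨v, rfl⟩ := P.surjective u
      rw [← toSp_mulVec P hP, h2, Matrix.one_mulVec, one_mul, one_mul]
    apply Subtype.ext
    rw [h3, Matrix.SpecialLinearGroup.coe_one]
    exact Matrix.one_fin_two.symm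
  · right
    have h3 : (g : Matrix (Fin 2) (Fin 2) E) = !![-1, 0; 0, -1] := by
      apply actL_eq (F := F)
      intro u
      obtain ⟨v, rfl⟩ := P.surjective u
      rw [← toSp_mulVec P hP, h2, Matrix.neg_mulVec, Matrix.one_mulVec, map_neg, neg_one_mul, neg_one_mul]
      rfl
    apply Subtype.ext
    rw [h3, Matrix.SpecialLinearGroup.coe_neg, Matrix.SpecialLinearGroup.coe_one, Matrix.one_fin_two]
    ext i j
    fin_cases i <;> fin_cases j <;> simp

theorem toPSp_neg_one : toPSp P hP (-1) = 1 := by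
  refine (QuotientGroup.eq_one_iff _).2 ?_
  rw [Subgroup.mem_center_iff]
  intro B
  apply Subtype.ext
  have h := toSp_neg_one P hP
  change (B : Matrix (Fin n ⊕ Fin n) (Fin n ⊕ Fin n) F) *
    ((toSp P hP (-1) : Matrix.symplecticGroup (Fin n) F) : Matrix (Fin n ⊕ Fin n) (Fin n ⊕ Fin n) F) =
    ((toSp P hP (-1) : Matrix.symplecticGroup (Fin n) F) : Matrix (Fin n ⊕ Fin n) (Fin n ⊕ Fin n) F) *
      (B : Matrix (Fin n ⊕ Fin n) (Fin n ⊕ Fin n) F)
  rw [h, mul_neg, neg_mul, one_mul, mul_one]

end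

/-- **`PSp_{2n}(q)` contains a Frobenius group `q^n : (q^n - 1)/2`.** -/
theorem frob_psp {F : Type u} [Field F] [Finite F] {p : ℕ} [CharP F p] (hp : p.Prime) (hp2 : p ≠ 2) {n : ℕ}
    (hn : 1 ≤ n) : Frob (PSp n F) p ((Nat.card F ^ n - 1) / 2) := by
  have := Fact.mk hp
  have : NeZero n := ⟨by omega⟩
  let E := FiniteField.Extension F p n
  have hfin : finrank F E = n := FiniteField.finrank_extension F p n
  have hcard : Nat.card E = Nat.card F ^ n := FiniteField.natCard_extension F p n
  have hcharE : CharP E p := charP_of_injective_algebraMap (algebraMap F E).injective p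
  have : Fintype E := Fintype.ofFinite E
  obtain ⟨P, hP⟩ := exists_coord (F := F) (E := E) hfin
  rw [← hcard]
  exact frob_of_sl2 hp hp2 (toPSp P hP) (fun g hg => toPSp_ker P hP hg) (toPSp_neg_one P hP)

end Cfsg.Agent.H327.KR
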